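import Mathlib
import Groth.Prelude.Def_Cyc
import Groth.Agent.S9357
import Groth.Agent.Lib.Helper4.FibDimComp1

set_option linter.style.haveILetI false
set_option linter.unusedVariables false
set_option linter.unusedSectionVars false
set_option autoImplicit false
set_option backward.isDefEq.respectTransparency.types false
set_option synthInstance.maxHeartbeats 400000
set_option maxHeartbeats 1600000

namespace Groth.Agent.Helper7.CycPull

open CategoryTheory AlgebraicGeometry IsLocalRing

universe u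

/-! helper7: flat pullback of cycles is compatible with composition: length multiplicativity (helper7) -/

/-- Multiplicativity of lengths along a flat local homomorphism (algebraic core). -/
theorem length_quot_map_comp {A B : Type u} [CommRing A] [CommRing B] [IsLocalRing A]
    [IsLocalRing B] (φ : A →+* B) [IsLocalHom φ] (hφ : φ.Flat) (I : Ideal A) :
    Module.length B (B ⧸ I.map φ) =
      Module.length A (A ⧸ I) * Module.length B (B ⧸ (maximalIdeal A).map φ) := by
  algebraize [φ]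
  have hloc : IsLocalHom (algebraMap A B) := ‹IsLocalHom φ›
  have hfl : Module.Flat A B := hφ
  have h := IsLocalRing.length_baseChange A B (A ⧸ I)
  refine Eq.trans ?_ h
  exact (Algebra.TensorProduct.quotIdealMapEquivTensorQuot B I).toLinearEquiv.length_eq

/-- Multiplicativity of the fibre multiplicities along a composite `f ≫ g` with `f` flat. -/
theorem length_stalk_comp {X Y Z : Scheme.{u}} (f : X ⟶ Y) (g : Y ⟶ Z) [Flat f] (x : X) :
    Module.length (X.presheaf.stalk x)
      (X.presheaf.stalk x ⧸ Ideal.map ((f ≫ g).stalkMap x).hom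
        (maximalIdeal (Z.presheaf.stalk ((f ≫ g) x)))) =
    Module.length (Y.presheaf.stalk (f x))
      (Y.presheaf.stalk (f x) ⧸ Ideal.map (g.stalkMap (f x)).hom
        (maximalIdeal (Z.presheaf.stalk (g (f x))))) *
    Module.length (X.presheaf.stalk x)
      (X.presheaf.stalk x ⧸ Ideal.map (f.stalkMap x).hom
        (maximalIdeal (Y.presheaf.stalk (f x)))) := by
  have e : Ideal.map ((f ≫ g).stalkMap x).hom (maximalIdeal (Z.presheaf.stalk ((f ≫ g) x))) =
      Ideal.map (f.stalkMap x).hom (Ideal.map (g.stalkMap (f x)).hom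
        (maximalIdeal (Z.presheaf.stalk (g (f x))))) := by
    rw [Ideal.map_map, Scheme.Hom.stalkMap_comp]
    rfl
  rw [e]
  exact length_quot_map_comp (f.stalkMap x).hom (Flat.stalkMap f x) _

open Groth.Agent.Lib.Helper4.FibDim1 Groth.Agent.Lib.Helper4.FibDim3
  Groth.Agent.Lib.Helper4.FibDimBC2 Groth.Agent.Lib.Helper4.FibDimComp1

/-- The residual transcendence degree is at most the relative dimension. -/
theorem tr_le_of_hasRelDim {X Y : Scheme.{u}} (f : X ⟶ Y) [LocallyOfFiniteType f] (r : ℕ)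
    (hr : Cyc.HasRelDim f r) (x : X) : tr f x ≤ r := by
  obtain ⟨x', hsp, hfx', hmax⟩ := exists_fibreMax_ge f x
  have h1 := tr_le_of_specializes f x' x hsp hfx'
  have h2 := (hasRelDim_iff_tr f r).mp hr x' hmax
  omega

/-- `DeltaCompat` in terms of `tr`. -/
theorem delta_eq_of_deltaCompat {X Y : Scheme.{u}} (f : X ⟶ Y) [LocallyOfFiniteType f]
    (δX : X → ℤ) (δY : Y → ℤ) (hf : Cyc.DeltaCompat f δX δY) (x : X) :
    δX x = δY (f x) + (tr f x : ℤ) := by
  obtain ⟨n, hn, hδ⟩ := hf x
  have h := tr_eq_of_trdeg_eq f x n hn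
  rw [h]
  exact hδ

theorem S1857_main (X Y Z : Scheme.{u}) (δX : X → ℤ) (δY : Y → ℤ) (δZ : Z → ℤ)
    (f : X ⟶ Y) (g : Y ⟶ Z) [Flat f] [LocallyOfFiniteType f] [Flat g] [LocallyOfFiniteType g]
    (r s : ℕ) (hr : Cyc.HasRelDim f r) (hs : Cyc.HasRelDim g s)
    (hf : Cyc.DeltaCompat f δX δY) (hg : Cyc.DeltaCompat g δY δZ) :
    Cyc.HasRelDim (f ≫ g) (r + s) ∧ ∀ α : Z → ℤ,
      Cyc.pullFun f δX δY r (Cyc.pullFun g δY δZ s α) =
        Cyc.pullFun (f ≫ g) δX δZ ((r : ℤ) + s) α := by
  refine ⟨(Groth.Agent.S9357.result f g r s).2 hr hs inferInstance, ?_⟩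
  intro α
  funext x
  have h1 := delta_eq_of_deltaCompat f δX δY hf x
  have h2 := delta_eq_of_deltaCompat g δY δZ hg (f x)
  have b1 := tr_le_of_hasRelDim f r hr x
  have b2 := tr_le_of_hasRelDim g s hs (f x)
  have hL := length_stalk_comp f g x
  have hz : δZ ((f ≫ g) x) = δZ (g (f x)) := rfl
  have hα : α ((f ≫ g) x) = α (g (f x)) := rfl
  simp only [Cyc.pullFun]
  rw [hz, hα, hL, ENat.toNat_mul, Nat.cast_mul]
  split_ifs with c1 c2 c3 c3 c3 c3
  · ring
  · omega
  · omega
  · simp
  · omega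
  · rfl

theorem S6479_main (X X' X'' : Scheme.{u}) (p : X' ⟶ X) (p' : X'' ⟶ X') [Flat p] [Flat p']
    (δ : X → ℤ) (δ' : X' → ℤ) (δ'' : X'' → ℤ)
    (hX' : Cyc.IsDimFun X' δ') (hX'' : Cyc.IsDimFun X'' δ'') (c c' : ℤ)
    (hc : ∀ x' : X', (∀ y, p y = p x' → y ⤳ x' → y = x') → δ' x' = δ (p x') + c)
    (hc' : ∀ x'' : X'', (∀ y, p' y = p' x'' → y ⤳ x'' → y = x'') → δ'' x'' = δ' (p' x'') + c')
    (α : X → ℤ) :
    (∀ x'' : X'', (∀ y, (p' ≫ p) y = (p' ≫ p) x'' → y ⤳ x'' → y = x'') →
      δ'' x'' = δ ((p' ≫ p) x'') + (c + c')) ∧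
    Cyc.pullFun (p' ≫ p) δ'' δ (c + c') α =
      Cyc.pullFun p' δ'' δ' c' (Cyc.pullFun p δ' δ c α) := by
  have le1 : ∀ x' : X', δ' x' ≤ δ (p x') + c := by
    intro x'
    obtain ⟨y, hsp, hy, hmax⟩ := exists_fibreMax_ge p x'
    have h := hc y hmax
    rw [hy] at h
    by_cases hne : y = x'
    · subst hne; omega
    · have := (hX' y x' hsp hne).1
      omega
  have le2 : ∀ x'' : X'', δ'' x'' ≤ δ' (p' x'') + c' := by
    intro x''
    obtain ⟨y, hsp, hy, hmax⟩ := exists_fibreMax_ge p' x''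
    have h := hc' y hmax
    rw [hy] at h
    by_cases hne : y = x''
    · subst hne; omega
    · have := (hX'' y x'' hsp hne).1
      omega
  refine ⟨?_, ?_⟩
  · intro x'' hmax
    have hmax1 : ∀ y, p' y = p' x'' → y ⤳ x'' → y = x'' := by
      intro y hy hsp
      refine hmax y ?_ hsp
      change p (p' y) = p (p' x'')
      rw [hy]
    have hmax2 : ∀ y, p y = p (p' x'') → y ⤳ p' x'' → y = p' x'' := by
      intro y' hy' hsp'
      obtain ⟨y'', hsp'', hy''⟩ := Flat.generalizingMap p' hsp'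
      have : y'' = x'' := by
        refine hmax y'' ?_ hsp''
        change p (p' y'') = p (p' x'')
        rw [hy'', hy']
      rw [← hy'', this]
    have e1 := hc' x'' hmax1
    have e2 := hc (p' x'') hmax2
    change δ'' x'' = δ (p (p' x'')) + (c + c')
    omega
  · funext x''
    have hL := length_stalk_comp p' p x''
    have hz : δ ((p' ≫ p) x'') = δ (p (p' x'')) := rfl
    have hα : α ((p' ≫ p) x'') = α (p (p' x'')) := rfl
    have i1 := le1 (p' x'')
    have i2 := le2 x''
    simp only [Cyc.pullFun]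
    rw [hz, hα, hL, ENat.toNat_mul, Nat.cast_mul]
    split_ifs with c1 c2 c3 c2 c3
    · ring
    · omega
    · omega
    · omega
    · simp
    · rfl

end Groth.Agent.Helper7.CycPull
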