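import Mathlib
import Groth.Prelude.Def_Cyc
import Groth.Agent.S9357
import Groth.Agent.S9358
import Groth.Agent.S9684
import Groth.Agent.Lib.Helper4.FibDimComp1
import Groth.Agent.Lib.Helper5.Stalk.Pull
import Groth.Agent.Lib.Helper8.ExtScal
import Groth.Agent.Lib.Helper7.CycPull.Main

set_option linter.style.haveILetI false
set_option linter.unusedVariables false
set_option linter.unusedSectionVars false
set_option autoImplicit false
set_option backward.isDefEq.respectTransparency.types false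
set_option synthInstance.maxHeartbeats 400000
set_option maxHeartbeats 1600000

namespace Groth.Agent.Helper7.CycPull

open CategoryTheory CategoryTheory.Limits AlgebraicGeometry IsLocalRing TensorProduct
open Groth.Agent.Lib.Helper5.StalkAdj
open Groth.Agent.Lib.Helper4.FibDim1 Groth.Agent.Lib.Helper4.FibDim3
  Groth.Agent.Lib.Helper4.FibDimBC2 Groth.Agent.Lib.Helper4.FibDimComp1

universe u

/-! helper7: flat pullback of cycles: general composition, cycles of pulled-back modules, base change square (helper7) -/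

/-- General composition of coefficientwise flat pullbacks, given the two upper bounds on the
dimension functions. -/
theorem pullFun_comp_of_le {X Y Z : Scheme.{u}} (f : X ⟶ Y) (g : Y ⟶ Z) [Flat f]
    (δX : X → ℤ) (δY : Y → ℤ) (δZ : Z → ℤ) (a b : ℤ)
    (h1 : ∀ x, δX x ≤ δY (f x) + a) (h2 : ∀ y, δY y ≤ δZ (g y) + b) (α : Z → ℤ) :
    Cyc.pullFun f δX δY a (Cyc.pullFun g δY δZ b α) =
      Cyc.pullFun (f ≫ g) δX δZ (a + b) α := by
  funext x
  have hL := length_stalk_comp f g x
  have hz : δZ ((f ≫ g) x) = δZ (g (f x)) := rfl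
  have hα : α ((f ≫ g) x) = α (g (f x)) := rfl
  have i1 := h1 x
  have i2 := h2 (f x)
  simp only [Cyc.pullFun]
  rw [hz, hα, hL, ENat.toNat_mul, Nat.cast_mul]
  split_ifs with c1 c2 c3 c3 c3 c3
  · ring
  · omega
  · omega
  · simp
  · omega
  · rfl

/-- The shift condition at fibre-maximal points bounds the dimension function everywhere. -/
theorem le_of_fibreMax {X' X : Scheme.{u}} (p : X' ⟶ X) (δ : X → ℤ) (δ' : X' → ℤ)
    (hX' : Cyc.IsDimFun X' δ') (c : ℤ)
    (hc : ∀ x' : X', (∀ y, p y = p x' → y ⤳ x' → y = x') → δ' x' = δ (p x') + c) (x' : X') :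
    δ' x' ≤ δ (p x') + c := by
  obtain ⟨y, hsp, hy, hmax⟩ := exists_fibreMax_ge p x'
  have h := hc y hmax
  rw [hy] at h
  by_cases hne : y = x'
  · subst hne; omega
  · have := (hX' y x' hsp hne).1
    omega

/-- Relative dimension `r` bounds the induced dimension function. -/
theorem le_of_hasRelDim {X Y : Scheme.{u}} (f : X ⟶ Y) [LocallyOfFiniteType f] (r : ℕ)
    (hr : Cyc.HasRelDim f r) (δX : X → ℤ) (δY : Y → ℤ) (hf : Cyc.DeltaCompat f δX δY) (x : X) :
    δX x ≤ δY (f x) + (r : ℤ) := by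
  have h1 := delta_eq_of_deltaCompat f δX δY hf x
  have b1 := tr_le_of_hasRelDim f r hr x
  omega

/-- The length of the stalk of a pullback module along a flat morphism. -/
theorem length_stalk_pullback {X' X : Scheme.{u}} (p : X' ⟶ X) [Flat p] (F : X.Modules)
    (x' : X') :
    Module.length (X'.presheaf.stalk x')
        (((Scheme.Modules.pullback p).obj F).presheaf.stalk x') =
      Module.length (X.presheaf.stalk (p x')) (F.presheaf.stalk (p x')) *
      Module.length (X'.presheaf.stalk x')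
        (X'.presheaf.stalk x' ⧸ Ideal.map (p.stalkMap x').hom
          (maximalIdeal (X.presheaf.stalk (p x')))) := by
  letI b3 : Algebra (X.presheaf.stalk (p x')) (X'.presheaf.stalk x') :=
    (p.stalkMap x').hom.toAlgebra
  let G := (Scheme.Modules.pullback p).obj F
  let e1 : (G.presheaf.stalk x') ≃ₗ[X'.presheaf.stalk x']
      ((ModuleCat.extendScalars.{u, u, u} (p.stalkMap x').hom).obj
        ((stalkSh X (p x')).obj F)) := ((stalkPullbackIso p x').app F).toLinearEquiv
  let e2 : ((ModuleCat.extendScalars.{u, u, u} (p.stalkMap x').hom).obj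
      ((stalkSh X (p x')).obj F)) ≃ₗ[X'.presheaf.stalk x']
      ((X'.presheaf.stalk x') ⊗[X.presheaf.stalk (p x')] (F.presheaf.stalk (p x'))) :=
    Groth.Agent.Helper8.extScalEquiv (R := X.presheaf.stalk (p x'))
      (S := X'.presheaf.stalk x') ((stalkSh X (p x')).obj F)
  have hloc : IsLocalHom (algebraMap (X.presheaf.stalk (p x')) (X'.presheaf.stalk x')) :=
    (inferInstance : IsLocalHom (p.stalkMap x').hom)
  have hfl : Module.Flat (X.presheaf.stalk (p x')) (X'.presheaf.stalk x') := Flat.stalkMap p x'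
  rw [(e1 ≪≫ₗ e2).length_eq]
  exact IsLocalRing.length_baseChange (X.presheaf.stalk (p x')) (X'.presheaf.stalk x')
    (F.presheaf.stalk (p x'))

/-- Flat pullback of the cycle of a module, given the upper bound on the dimension functions. -/
theorem pullFun_sheafFun_of_le {X' X : Scheme.{u}} (p : X' ⟶ X) [Flat p]
    (δ : X → ℤ) (δ' : X' → ℤ) (a : ℤ) (h1 : ∀ x', δ' x' ≤ δ (p x') + a) (k : ℤ)
    (F : X.Modules) (hdim : ∀ x : X, Nontrivial (F.presheaf.stalk x) → δ x ≤ k) :
    (∀ x' : X', Nontrivial (((Scheme.Modules.pullback p).obj F).presheaf.stalk x') →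
      δ' x' ≤ k + a) ∧
    Cyc.pullFun p δ' δ a (Cyc.sheafFun δ k F) =
      Cyc.sheafFun δ' (k + a) ((Scheme.Modules.pullback p).obj F) := by
  have key : ∀ x' : X', ¬ Nontrivial (F.presheaf.stalk (p x')) →
      Module.length (X'.presheaf.stalk x')
        (((Scheme.Modules.pullback p).obj F).presheaf.stalk x') = 0 := by
    intro x' hN
    rw [length_stalk_pullback p F x']
    have : Subsingleton (F.presheaf.stalk (p x')) := not_nontrivial_iff_subsingleton.mp hN
    rw [Module.length_eq_zero, zero_mul]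
  refine ⟨?_, ?_⟩
  · intro x' hN'
    have hN : Nontrivial (F.presheaf.stalk (p x')) := by
      by_contra hN
      have h0 := key x' hN
      rw [Module.length_eq_zero_iff] at h0
      exact not_subsingleton _ h0
    have := hdim _ hN
    have := h1 x'
    omega
  · funext x'
    have i1 := h1 x'
    have hL := length_stalk_pullback p F x'
    simp only [Cyc.pullFun, Cyc.sheafFun]
    rw [hL, ENat.toNat_mul, Nat.cast_mul]
    by_cases hN : Nontrivial (F.presheaf.stalk (p x'))
    · have i2 := hdim _ hN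
      split_ifs with c1 c2 c3 c3 c3 c3
      · rfl
      · omega
      · omega
      · simp
      · omega
      · rfl
    · have : Subsingleton (F.presheaf.stalk (p x')) := not_nontrivial_iff_subsingleton.mp hN
      rw [Module.length_eq_zero]
      simp

theorem S6477_main (X X' : Scheme.{u}) (p : X' ⟶ X) [Flat p] (δ : X → ℤ) (δ' : X' → ℤ)
    (hX' : Cyc.IsDimFun X' δ') (c : ℤ)
    (hc : ∀ x' : X', (∀ y, p y = p x' → y ⤳ x' → y = x') → δ' x' = δ (p x') + c) (k : ℤ)
    (F : X.Modules) (hdim : ∀ x : X, Nontrivial (F.presheaf.stalk x) → δ x ≤ k) :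
    (∀ x' : X', Nontrivial (((Scheme.Modules.pullback p).obj F).presheaf.stalk x') →
      δ' x' ≤ k + c) ∧
    Cyc.pullFun p δ' δ c (Cyc.sheafFun δ k F) =
      Cyc.sheafFun δ' (k + c) ((Scheme.Modules.pullback p).obj F) :=
  pullFun_sheafFun_of_le p δ δ' c (le_of_fibreMax p δ δ' hX' c hc) k F hdim

theorem S1897_main (X Y : Scheme.{u}) (δX : X → ℤ) (δY : Y → ℤ) (f : X ⟶ Y) [Flat f]
    [LocallyOfFiniteType f] (r : ℕ) (hr : Cyc.HasRelDim f r) (hδ : Cyc.DeltaCompat f δX δY)
    (k : ℤ) (F : Y.Modules) (hdim : ∀ y : Y, Nontrivial (F.presheaf.stalk y) → δY y ≤ k) :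
    (∀ x : X, Nontrivial (((Scheme.Modules.pullback f).obj F).presheaf.stalk x) →
      δX x ≤ k + r) ∧
    Cyc.pullFun f δX δY r (Cyc.sheafFun δY k F) =
      Cyc.sheafFun δX (k + r) ((Scheme.Modules.pullback f).obj F) :=
  pullFun_sheafFun_of_le f δY δX r (le_of_hasRelDim f r hr δX δY hδ) k F hdim

theorem S6478_main (X X' Y : Scheme.{u}) (f : Y ⟶ X) (p : X' ⟶ X) [Flat f]
    [LocallyOfFiniteType f] [Flat p] (r : ℕ) (hr : Cyc.HasRelDim f r) (δ : X → ℤ) (δ' : X' → ℤ)
    (δY : Y → ℤ) (δY' : ↥(pullback f p) → ℤ) (hX' : Cyc.IsSetup X' δ')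
    (hf : Cyc.DeltaCompat f δY δ) (hf' : Cyc.DeltaCompat (pullback.snd f p) δY' δ') (c : ℤ)
    (hc : ∀ x' : X', (∀ y, p y = p x' → y ⤳ x' → y = x') → δ' x' = δ (p x') + c)
    (hcY : ∀ y' : ↥(pullback f p), (∀ y, pullback.fst f p y = pullback.fst f p y' → y ⤳ y' →
      y = y') → δY' y' = δY (pullback.fst f p y') + c) (α : X → ℤ) :
    Cyc.HasRelDim (pullback.snd f p) r ∧
      Cyc.pullFun (pullback.snd f p) δY' δ' r (Cyc.pullFun p δ' δ c α) =
        Cyc.pullFun (pullback.fst f p) δY' δY c (Cyc.pullFun f δY δ r α) := by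
  have hr' : Cyc.HasRelDim (pullback.snd f p) r :=
    (Groth.Agent.S9358.result f p (pullback.fst f p) (pullback.snd f p)
      (IsPullback.of_hasPullback f p) r).2.2 hr
  have hdimY' : Cyc.IsDimFun (pullback f p) δY' :=
    Groth.Agent.S9684.result (pullback.snd f p) δ' hX' δY' hf'
  have A1 := le_of_hasRelDim (pullback.snd f p) r hr' δY' δ' hf'
  have A2 := le_of_fibreMax p δ δ' hX'.2.2 c hc
  have B1 := le_of_fibreMax (pullback.fst f p) δY δY' hdimY' c hcY
  have B2 := le_of_hasRelDim f r hr δY δ hf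
  refine ⟨hr', ?_⟩
  rw [pullFun_comp_of_le (pullback.snd f p) p δY' δ' δ r c A1 A2 α,
    pullFun_comp_of_le (pullback.fst f p) f δY' δY δ c r B1 B2 α, ← pullback.condition, add_comm]

end Groth.Agent.Helper7.CycPull
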