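import Mathlib
import Groth.Prelude.Def_Cyc
import Groth.Agent.Lib.Helper7.CycPull.Sheaf
import Groth.Agent.Lib.Helper7.DimFun.CMEqui
import Groth.Agent.Lib.Lead.SecOrd0

set_option linter.style.haveILetI false
set_option linter.unusedVariables false
set_option linter.unusedSectionVars false
set_option autoImplicit false
set_option backward.isDefEq.respectTransparency.types false
set_option synthInstance.maxHeartbeats 400000
set_option maxHeartbeats 1600000

namespace Groth.Agent.Helper7.CycPull

open CategoryTheory AlgebraicGeometry IsLocalRing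
open Groth.Agent.Lead.SecOrd

universe u

/-! helper7: flat pullback of principal divisors (order of vanishing along flat local homomorphisms) -/

/-! helper7: flat pullback of principal divisors (helper7) -/

section Alg

theorem toZ_inv {a : WithZero (Multiplicative ℤ)} (ha : a ≠ 0) : toZ a⁻¹ = - toZ a := by
  obtain ⟨a, rfl⟩ := WithZero.ne_zero_iff_exists.1 ha
  rw [← WithZero.coe_inv, toZ_coe, toZ_coe, toAdd_inv]

theorem toZ_div {a b : WithZero (Multiplicative ℤ)} (ha : a ≠ 0) (hb : b ≠ 0) :
    toZ (a / b) = toZ a - toZ b := by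
  rw [div_eq_mul_inv, toZ_mul ha (inv_ne_zero hb), toZ_inv hb, sub_eq_add_neg]

theorem toZ_ordFrac_algebraMap {R : Type u} [CommRing R] [IsDomain R] [IsNoetherianRing R]
    [Ring.KrullDimLE 1 R] {K : Type u} [Field K] [Algebra R K] [IsFractionRing R K]
    (a : R) (ha : a ≠ 0) :
    toZ (Ring.ordFrac R (algebraMap R K a)) = ((Ring.ord R a).toNat : ℤ) := by
  have hnz : a ∈ nonZeroDivisors R := mem_nonZeroDivisors_of_ne_zero ha
  obtain ⟨m, hm⟩ := ENat.ne_top_iff_exists.mp (Ring.ord_ne_top hnz)
  rw [Ring.ordFrac_eq_ord R ha, Ring.ordMonoidWithZeroHom_eq_coe R hnz hm.symm, toZ_coe, ← hm]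
  simp

variable {A B : Type u} [CommRing A] [CommRing B] [IsLocalRing A] [IsLocalRing B]
  (φ : A →+* B) [IsLocalHom φ] (hφ : φ.Flat)

include hφ in
/-- the order of vanishing along a flat local homomorphism -/
theorem ord_map_eq (a : A) :
    Ring.ord B (φ a) = Ring.ord A a * Module.length B (B ⧸ (maximalIdeal A).map φ) := by
  unfold Ring.ord
  have h := length_quot_map_comp φ hφ (Ideal.span {a})
  rw [Ideal.map_span, Set.image_singleton] at h
  exact h

include hφ in
theorem injective_of_flat_local : Function.Injective φ := by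
  algebraize [φ]
  have hloc : IsLocalHom (algebraMap A B) := ‹IsLocalHom φ›
  have hfl : Module.Flat A B := hφ
  haveI : Module.FaithfullyFlat A B := Module.FaithfullyFlat.of_flat_of_isLocalHom
  exact FaithfulSMul.algebraMap_injective A B

variable {K L : Type u} [Field K] [Field L] [Algebra A K] [Algebra B L]
  [IsFractionRing A K] [IsFractionRing B L] [IsNoetherianRing A] [IsNoetherianRing B]
  [Ring.KrullDimLE 1 A] [Ring.KrullDimLE 1 B] (ψ : K →+* L)
  (hψ : ∀ a, ψ (algebraMap A K a) = algebraMap B L (φ a))

include hφ hψ in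
/-- the order of a rational function along a flat local homomorphism of one-dimensional
Noetherian local domains is multiplied by the length of the closed fibre -/
theorem ordFrac_map (g : K) :
    CycAlg.ordFrac B L (ψ g) = CycAlg.ordFrac A K g *
      ((Module.length B (B ⧸ (maximalIdeal A).map φ)).toNat : ℤ) := by
  haveI : IsDomain A := (IsFractionRing.injective A K).isDomain _
  haveI : IsDomain B := (IsFractionRing.injective B L).isDomain _
  have hinj := injective_of_flat_local φ hφ
  by_cases hg : g = 0
  · rw [hg, map_zero, ordFrac_zero, ordFrac_zero, zero_mul]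
  · obtain ⟨a, b, hb, rfl⟩ := IsFractionRing.div_surjective (A := A) g
    have hb0 : b ≠ 0 := nonZeroDivisors.ne_zero hb
    have ha0 : a ≠ 0 := by
      rintro rfl
      apply hg
      rw [map_zero, zero_div]
    have hφa : φ a ≠ 0 := (map_ne_zero_iff φ hinj).2 ha0
    have hφb : φ b ≠ 0 := (map_ne_zero_iff φ hinj).2 hb0
    have hKa : algebraMap A K a ≠ 0 :=
      (map_ne_zero_iff _ (IsFractionRing.injective A K)).2 ha0
    have hKb : algebraMap A K b ≠ 0 :=
      (map_ne_zero_iff _ (IsFractionRing.injective A K)).2 hb0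
    have hLa : algebraMap B L (φ a) ≠ 0 :=
      (map_ne_zero_iff _ (IsFractionRing.injective B L)).2 hφa
    have hLb : algebraMap B L (φ b) ≠ 0 :=
      (map_ne_zero_iff _ (IsFractionRing.injective B L)).2 hφb
    rw [ordFrac_eq, ordFrac_eq, map_div₀, hψ, hψ, map_div₀, map_div₀,
      toZ_div ((map_ne_zero _).2 hLa) ((map_ne_zero _).2 hLb),
      toZ_div ((map_ne_zero _).2 hKa) ((map_ne_zero _).2 hKb),
      toZ_ordFrac_algebraMap _ hφa, toZ_ordFrac_algebraMap _ hφb,
      toZ_ordFrac_algebraMap _ ha0, toZ_ordFrac_algebraMap _ hb0,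
      ord_map_eq φ hφ a, ord_map_eq φ hφ b, ENat.toNat_mul, ENat.toNat_mul]
    push_cast
    ring

end Alg

section Geom

variable {X : Scheme.{u}} [IsIntegral X]

/-- `K(X) ≃ κ(η)` -/
noncomputable def eResGen : X.functionField ≃+* X.residueField (genericPoint X) :=
  RingEquiv.ofBijective (X.residue (genericPoint X)).hom
    ⟨RingHom.injective (R := X.functionField) _, IsLocalRing.residue_surjective⟩

theorem isFractionRing_specMap (x ξ : X) (h : ξ ⤳ x) (hξ : ξ = genericPoint X) :
    @IsFractionRing (X.presheaf.stalk x) _ (X.residueField ξ) _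
      (Cyc.specMap x ξ h).toAlgebra := by
  subst hξ
  letI : Algebra (X.presheaf.stalk x) (X.residueField (genericPoint X)) :=
    (Cyc.specMap x (genericPoint X) h).toAlgebra
  exact isFractionRing_ringEquiv (R := X.presheaf.stalk x) (K := X.functionField)
    (RingEquiv.refl _) (eResGen (X := X)) (fun r => rfl)

theorem ordAt_eq_ordFrac [IsLocallyNoetherian X] (x ξ : X) (h : ξ ⤳ x)
    (hξ : ξ = genericPoint X) [Ring.KrullDimLE 1 (X.presheaf.stalk x)]
    (g : X.residueField ξ) :
    Cyc.ordAt x ξ h g =
      @CycAlg.ordFrac (X.presheaf.stalk x) _ (X.residueField ξ) _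
        (Cyc.specMap x ξ h).toAlgebra g := by
  letI : Algebra (X.presheaf.stalk x) (X.residueField ξ) := (Cyc.specMap x ξ h).toAlgebra
  haveI : IsFractionRing (X.presheaf.stalk x) (X.residueField ξ) :=
    isFractionRing_specMap x ξ h hξ
  have hinj : Function.Injective (Cyc.specMap x ξ h) :=
    IsFractionRing.injective (X.presheaf.stalk x) (X.residueField ξ)
  let eQ : X.presheaf.stalk x ≃+* Cyc.LocQuot x ξ h :=
    RingEquiv.ofBijective (Ideal.Quotient.mk (RingHom.ker (Cyc.specMap x ξ h)))
      ⟨by
        rw [RingHom.injective_iff_ker_eq_bot, Ideal.mk_ker,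
          (RingHom.injective_iff_ker_eq_bot _).1 hinj],
       Ideal.Quotient.mk_surjective⟩
  unfold Cyc.ordAt
  exact cyc_ordFrac_ringEquiv eQ (RingEquiv.refl (X.residueField ξ)) (fun r => rfl) g

theorem krullDimLE_one_of_delta [IsLocallyNoetherian X] (δ : X → ℤ) (hδ : Cyc.IsDimFun X δ)
    (x : X) (hx : δ (genericPoint X) ≤ δ x + 1) :
    Ring.KrullDimLE 1 (X.presheaf.stalk x) := by
  have hgen : ∀ ζ' : X, ζ' ⤳ genericPoint X → ζ' = genericPoint X := by
    intro ζ' h
    exact (h.antisymm (genericPoint_specializes ζ')).eq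
  obtain ⟨p, n, hp, hn, hδn⟩ := Groth.Agent.Helper7.DimFun.delta_maximal_generization δ hδ x
    (genericPoint X) hgen (genericPoint_specializes x)
  have hbot : p.asIdeal = ⊥ := by
    rw [IsDomain.minimalPrimes_eq_singleton_bot] at hp
    exact hp
  have h1 : ringKrullDim (X.presheaf.stalk x) = n := by
    rw [← hn, hbot]
    exact (ringKrullDim_eq_of_ringEquiv (RingEquiv.quotientBot _)).symm
  have hn1 : n ≤ 1 := by omega
  rw [Ring.krullDimLE_iff, h1]
  exact_mod_cast hn1

theorem isField_stalk_of_eq (y : X) (hy : y = genericPoint X) :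
    IsField (X.presheaf.stalk y) := by
  subst hy
  exact Field.toIsField X.functionField

theorem map_genericPoint {Y : Scheme.{u}} [IsIntegral Y] (f : X ⟶ Y) [Flat f] :
    f (genericPoint X) = genericPoint Y := by
  obtain ⟨x', hsp, hx'⟩ := Flat.generalizingMap f
    (genericPoint_specializes (f (genericPoint X)))
  have : x' = genericPoint X := (hsp.antisymm (genericPoint_specializes x')).eq
  rw [← hx', this]

theorem specMap_compat {Y : Scheme.{u}} (f : X ⟶ Y) (x ξ : X) (h : ξ ⤳ x)
    (h' : f ξ ⤳ f x) (a : Y.presheaf.stalk (f x)) :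
    (f.residueFieldMap ξ).hom (Cyc.specMap (f x) (f ξ) h' a) =
      Cyc.specMap x ξ h ((f.stalkMap x).hom a) := by
  unfold Cyc.specMap
  have h1 := Scheme.Hom.stalkSpecializes_stalkMap_apply f ξ x h a
  have h2 := DFunLike.congr_fun (CommRingCat.hom_ext_iff.mp
    (Scheme.residue_residueFieldMap f ξ)) ((Y.presheaf.stalkSpecializes h').hom a)
  simp only [CommRingCat.hom_comp, RingHom.comp_apply] at h2 ⊢
  rw [h2]
  congr 1

/-- the order of the pulled back rational function -/
theorem ordAt_pull [IsLocallyNoetherian X] {Y : Scheme.{u}} [IsIntegral Y]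
    [IsLocallyNoetherian Y] (f : X ⟶ Y) [Flat f] (x : X) (hsx : genericPoint X ⤳ x)
    (hsy : f (genericPoint X) ⤳ f x)
    [Ring.KrullDimLE 1 (X.presheaf.stalk x)] [Ring.KrullDimLE 1 (Y.presheaf.stalk (f x))]
    (g : Y.residueField (f (genericPoint X))) :
    Cyc.ordAt x (genericPoint X) hsx ((f.residueFieldMap (genericPoint X)).hom g) =
      Cyc.ordAt (f x) (f (genericPoint X)) hsy g *
        ((Module.length (X.presheaf.stalk x)
          (X.presheaf.stalk x ⧸ Ideal.map (f.stalkMap x).hom
            (maximalIdeal (Y.presheaf.stalk (f x))))).toNat : ℤ) := by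
  rw [ordAt_eq_ordFrac x (genericPoint X) hsx rfl,
    ordAt_eq_ordFrac (f x) (f (genericPoint X)) hsy (map_genericPoint f)]
  letI : Algebra (X.presheaf.stalk x) (X.residueField (genericPoint X)) :=
    (Cyc.specMap x (genericPoint X) hsx).toAlgebra
  letI : Algebra (Y.presheaf.stalk (f x)) (Y.residueField (f (genericPoint X))) :=
    (Cyc.specMap (f x) (f (genericPoint X)) hsy).toAlgebra
  haveI : IsFractionRing (X.presheaf.stalk x) (X.residueField (genericPoint X)) :=
    isFractionRing_specMap x (genericPoint X) hsx rfl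
  haveI : IsFractionRing (Y.presheaf.stalk (f x)) (Y.residueField (f (genericPoint X))) :=
    isFractionRing_specMap (f x) (f (genericPoint X)) hsy (map_genericPoint f)
  exact ordFrac_map (f.stalkMap x).hom (Flat.stalkMap f x) (f.residueFieldMap (genericPoint X)).hom
    (fun a => specMap_compat f x (genericPoint X) hsx hsy a) g


open Groth.Agent.Lib.Helper4.FibDim1 Groth.Agent.Lib.Helper4.FibDimComp1 in
theorem S1905_main (X Y : Scheme.{u}) [IsIntegral X] [IsIntegral Y] (δX : X → ℤ) (δY : Y → ℤ)
    (hX : Cyc.IsSetup X δX) (hY : Cyc.IsSetup Y δY) (f : X ⟶ Y) [Flat f]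
    [LocallyOfFiniteType f] (r : ℕ) (hr : Cyc.HasRelDim f r) (hδ : Cyc.DeltaCompat f δX δY)
    (g : Y.residueField (f (genericPoint X))) (hg : g ≠ 0) :
    Cyc.pullFun f δX δY r (Cyc.divFun δY (f (genericPoint X)) g) =
      Cyc.divFun δX (genericPoint X) (f.residueFieldMap (genericPoint X) g) := by
  haveI : IsLocallyNoetherian X := hX.1
  haveI : IsLocallyNoetherian Y := hY.1
  have hη : f (genericPoint X) = genericPoint Y := map_genericPoint f
  have e0 : δX (genericPoint X) = δY (f (genericPoint X)) + r := by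
    have h1 := delta_eq_of_deltaCompat f δX δY hδ (genericPoint X)
    have h2 := (hasRelDim_iff_tr f r).mp hr (genericPoint X) (by
      intro y _ hsp
      exact (hsp.antisymm (genericPoint_specializes y)).eq)
    rw [h1, h2]
  funext x
  have hsx : genericPoint X ⤳ x := genericPoint_specializes x
  have hsy : f (genericPoint X) ⤳ f x := hsx.map f.continuous
  have hle := le_of_hasRelDim f r hr δX δY hδ x
  have hRHS : Cyc.divFun δX (genericPoint X) (f.residueFieldMap (genericPoint X) g) x =
      if δX x + 1 = δX (genericPoint X) then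
        Cyc.ordAt x (genericPoint X) hsx ((f.residueFieldMap (genericPoint X)).hom g) else 0 := by
    unfold Cyc.divFun
    by_cases hA : δX x + 1 = δX (genericPoint X)
    · rw [dif_pos ⟨hsx, hA⟩, if_pos hA]
    · rw [dif_neg (fun h => hA h.2), if_neg hA]
  have hDY : Cyc.divFun δY (f (genericPoint X)) g (f x) =
      if δY (f x) + 1 = δY (f (genericPoint X)) then
        Cyc.ordAt (f x) (f (genericPoint X)) hsy g else 0 := by
    unfold Cyc.divFun
    by_cases hA : δY (f x) + 1 = δY (f (genericPoint X))
    · rw [dif_pos ⟨hsy, hA⟩, if_pos hA]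
    · rw [dif_neg (fun h => hA h.2), if_neg hA]
  rw [hRHS]
  change (if δX x = δY (f x) + (r : ℤ) then
    Cyc.divFun δY (f (genericPoint X)) g (f x) * _ else 0) = _
  rw [hDY]
  by_cases hA : δX x + 1 = δX (genericPoint X)
  · rw [if_pos hA]
    haveI : Ring.KrullDimLE 1 (X.presheaf.stalk x) :=
      krullDimLE_one_of_delta δX hX.2.2 x (by omega)
    haveI : Ring.KrullDimLE 1 (Y.presheaf.stalk (f x)) :=
      krullDimLE_one_of_delta δY hY.2.2 (f x) (by rw [← hη]; omega)
    have key := ordAt_pull f x hsx hsy g
    by_cases hA1 : δX x = δY (f x) + r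
    · rw [if_pos hA1, if_pos (by omega)]
      exact key.symm
    · rw [if_neg hA1]
      have hfx : f x = f (genericPoint X) := by
        by_contra hne
        have := (hY.2.2 _ _ hsy (fun h => hne h.symm)).1
        omega
      have hfld : IsField (Y.presheaf.stalk (f x)) := isField_stalk_of_eq (f x) (hfx.trans hη)
      letI : Algebra (Y.presheaf.stalk (f x)) (Y.residueField (f (genericPoint X))) :=
        (Cyc.specMap (f x) (f (genericPoint X)) hsy).toAlgebra
      haveI : IsFractionRing (Y.presheaf.stalk (f x)) (Y.residueField (f (genericPoint X))) :=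
        isFractionRing_specMap (f x) (f (genericPoint X)) hsy hη
      haveI : IsDomain (Y.presheaf.stalk (f x)) :=
        (IsFractionRing.injective (Y.presheaf.stalk (f x))
          (Y.residueField (f (genericPoint X)))).isDomain _
      obtain ⟨a, ha⟩ := (IsFractionRing.surjective_iff_isField
        (R := Y.presheaf.stalk (f x)) (K := Y.residueField (f (genericPoint X)))).2 hfld g
      have ha0 : a ≠ 0 := by
        rintro rfl
        apply hg
        rw [← ha, map_zero]
      obtain ⟨b, hb⟩ := hfld.mul_inv_cancel ha0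
      have hu : IsUnit a := IsUnit.of_mul_eq_one b hb
      have h0 : Cyc.ordAt (f x) (f (genericPoint X)) hsy g = 0 := by
        rw [ordAt_eq_ordFrac (f x) (f (genericPoint X)) hsy hη, ← ha]
        exact ordFrac_unit _ _ hu.unit
      rw [key, h0, zero_mul]
  · rw [if_neg hA]
    split_ifs with h1 h2
    · exact absurd (by omega) hA
    · simp
    · rfl

end Geom

end Groth.Agent.Helper7.CycPull
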