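import Mathlib
import Groth.Prelude.Def_Cyc
import Groth.Agent.Lib.Helper4.FibDimComp1
import Groth.Agent.Lib.Helper7.CycPull.Main

set_option linter.style.haveILetI false
set_option linter.unusedVariables false
set_option linter.unusedSectionVars false
set_option autoImplicit false
set_option backward.isDefEq.respectTransparency.types false
set_option synthInstance.maxHeartbeats 400000
set_option maxHeartbeats 1600000

namespace Groth.Agent.Helper7.CycPull

open CategoryTheory CategoryTheory.Limits AlgebraicGeometry IsLocalRing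
open Groth.Agent.Lib.Helper4.FibDim1 Groth.Agent.Lib.Helper4.FibDim3
  Groth.Agent.Lib.Helper4.FibDimBC2 Groth.Agent.Lib.Helper4.FibDimComp1
  Groth.Agent.Lib.Helper4.GenFib1

universe u

/-! helper7: dimension function at generic points of components of a flat base change (helper7) -/

theorem S1939_main (S S' X : Scheme.{u}) (δS : S → ℤ) (δS' : S' → ℤ) (g : S' ⟶ S) [Flat g]
    (c : ℤ)
    (hc : ∀ s' : S', (∀ y, g y = g s' → y ⤳ s' → y = s') → δS' s' = δS (g s') + c)
    (a : X ⟶ S) [LocallyOfFiniteType a] [IsIntegral X] (δX : X → ℤ)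
    (hX : Cyc.DeltaCompat a δX δS) (δX' : ↥(pullback a g) → ℤ)
    (hX' : Cyc.DeltaCompat (pullback.snd a g) δX' δS') (k : ℤ)
    (hk : δX (genericPoint X) = k) (x' : ↥(pullback a g))
    (hx' : ∀ y : ↥(pullback a g), y ⤳ x' → y = x') : δX' x' = k + c := by
  have hη : pullback.fst a g x' = genericPoint X := by
    have hsp : genericPoint X ⤳ pullback.fst a g x' := genericPoint_specializes _
    obtain ⟨y, hy, hyη⟩ := Flat.generalizingMap (pullback.fst a g) hsp
    rw [← hyη, hx' y hy]
  have hmax : ∀ z'' : ↥(pullback a g), pullback.snd a g z'' = pullback.snd a g x' → z'' ⤳ x' →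
      z'' = x' := fun z'' _ h => hx' z'' h
  obtain ⟨htr, -⟩ := tr_eq_of_max_abs a g (pullback.fst a g) (pullback.snd a g)
    (IsPullback.of_hasPullback a g) x' hmax
  have hs' : ∀ y, g y = g (pullback.snd a g x') → y ⤳ pullback.snd a g x' →
      y = pullback.snd a g x' := by
    intro t' ht' hsp
    obtain ⟨w₁, hw₁, -, hw₁s⟩ := exists_generization_snd a g x' t' hsp ht'
    rw [← hw₁s, hx' w₁ hw₁]
  have e1 := hc _ hs'
  have e2 := delta_eq_of_deltaCompat (pullback.snd a g) δX' δS' hX' x'
  have e3 := delta_eq_of_deltaCompat a δX δS hX (genericPoint X)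
  have e4 : g (pullback.snd a g x') = a (pullback.fst a g x') := by
    rw [← Scheme.Hom.comp_apply, ← Scheme.Hom.comp_apply, pullback.condition]
  rw [hη] at htr e4
  rw [e4] at e1
  omega

end Groth.Agent.Helper7.CycPull
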